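import Mathlib

/-!
A solvable transitive permutation group of `ZMod (p ^ a)`, `p` odd, containing the translation
by one permutes the residue classes mod `p`, and its elements of `p`-power order shift them.
-/

set_option autoImplicit false

namespace Cfsg.Agent.AltPPair

open Equiv

theorem exists_elementary_normal (G : Type*) [Group G] [Finite G] [Nontrivial G]
    (hsol : Group.IsSolvable G) : ∃ (p : ℕ) (E : Subgroup G), p.Prime ∧ E.Normal ∧ E ≠ ⊥ ∧
      (∀ a ∈ E, ∀ b ∈ E, a * b = b * a) ∧ ∀ a ∈ E, a ^ p = 1 := by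
  classical
  have hex : ∃ n, derivedSeries G n = ⊥ := (Group.isSolvable_def G).1 hsol
  obtain ⟨m, hm⟩ : ∃ m, Nat.find hex = m + 1 := by
    refine ⟨Nat.find hex - 1, ?_⟩
    rcases Nat.eq_zero_or_pos (Nat.find hex) with h0 | h0
    · have := Nat.find_spec hex
      rw [h0, derivedSeries_zero] at this
      exact absurd this top_ne_bot
    · omega
  set D := derivedSeries G m with hD
  have hne : D ≠ ⊥ := Nat.find_min hex (by omega)
  have hab : ∀ a ∈ D, ∀ b ∈ D, a * b = b * a := fun a ha b hb => by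
    have h1 := Nat.find_spec hex
    rw [hm, derivedSeries_succ] at h1
    refine commutatorElement_eq_one_iff_mul_comm.1 ?_
    rw [← Subgroup.mem_bot, ← h1]
    exact Subgroup.commutator_mem_commutator ha hb
  obtain ⟨p, hp, hpd⟩ := Nat.exists_prime_and_dvd (mt Subgroup.card_eq_one.1 hne)
  have := Fact.mk hp
  let E : Subgroup G :=
    { carrier := {a | a ∈ D ∧ a ^ p = 1}
      one_mem' := ⟨D.one_mem, one_pow p⟩
      mul_mem' := fun {a b} ha hb => ⟨D.mul_mem ha.1 hb.1, by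
        rw [(show Commute a b from hab a ha.1 b hb.1).mul_pow, ha.2, hb.2, one_mul]⟩
      inv_mem' := fun {a} ha => ⟨D.inv_mem ha.1, by rw [inv_pow, ha.2, inv_one]⟩ }
  refine ⟨p, E, hp, ⟨fun a ha g => ⟨(derivedSeries_normal G m).conj_mem a ha.1 g, ?_⟩⟩, ?_,
    fun a ha b hb => hab a ha.1 b hb.1, fun a ha => ha.2⟩
  · rw [conj_pow, ha.2]; group
  · obtain ⟨a, ha⟩ := exists_prime_orderOf_dvd_card' p hpd
    intro h
    have hmem : (a : G) ∈ E := ⟨a.2, by rw [← Subgroup.coe_pow, ← ha, pow_orderOf_eq_one]; rfl⟩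
    rw [h, Subgroup.mem_bot] at hmem
    rw [show a = 1 from Subtype.ext hmem, orderOf_one] at ha
    exact hp.one_lt.ne ha


/-- Translation by one. -/
def transl (n : ℕ) : Perm (ZMod n) := Equiv.addRight 1

theorem transl_pow (n k : ℕ) (x : ZMod n) : (transl n ^ k) x = x + k := by
  induction k with
  | zero => simp
  | succ k ih =>
    rw [pow_succ', Perm.mul_apply, ih]
    simp [transl, add_assoc]

theorem transl_pow_val {n : ℕ} [NeZero n] (b x : ZMod n) : (transl n ^ b.val) x = x + b := by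
  rw [transl_pow, ZMod.natCast_val, ZMod.cast_id', id]

theorem conj_transl {n : ℕ} [NeZero n] (b x : ZMod n) (e : Perm (ZMod n)) :
    ((transl n ^ b.val) * e * (transl n ^ b.val)⁻¹) (x + b) = e x + b := by
  have : (transl n ^ b.val)⁻¹ (x + b) = x := by
    rw [Perm.inv_eq_iff_eq, transl_pow_val]
  rw [Perm.mul_apply, Perm.mul_apply, this, transl_pow_val]

theorem conj_pow_mem {G : Type*} [Group G] {N : Subgroup G} {g : G}
    (hg : ∀ x ∈ N, g * x * g⁻¹ ∈ N) (k : ℕ) : ∀ x ∈ N, g ^ k * x * (g ^ k)⁻¹ ∈ N := by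
  induction k with
  | zero => intro x hx; simpa using hx
  | succ k ih =>
    intro x hx
    have := hg _ (ih x hx)
    rwa [pow_succ', mul_inv_rev, show g * g ^ k * x * ((g ^ k)⁻¹ * g⁻¹) =
      g * (g ^ k * x * (g ^ k)⁻¹) * g⁻¹ by group]

theorem exists_commute {G : Type*} [Group G] [Finite G] {p : ℕ} [hp : Fact p.Prime]
    {N : Subgroup G} (hN : p ∣ Nat.card N) {g : G} (hg : ∀ x ∈ N, g * x * g⁻¹ ∈ N) {k : ℕ}
    (hk : g ^ p ^ k = 1) : ∃ z ∈ N, z ≠ 1 ∧ g * z = z * g := by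
  classical
  let _ : Fintype G := Fintype.ofFinite G
  let f : N → N := fun x => ⟨g * x * g⁻¹, hg x x.2⟩
  have hf : Function.Injective f := fun x y h => by
    have h' : g * (x : G) * g⁻¹ = g * y * g⁻¹ := congrArg Subtype.val h
    exact Subtype.ext (mul_left_cancel (mul_right_cancel h'))
  let σ : Perm N := Equiv.ofBijective f (Finite.injective_iff_bijective.mp hf)
  have hσ : ∀ (j : ℕ) (x : N), (((σ ^ j) x : N) : G) = g ^ j * x * (g ^ j)⁻¹ := by
    intro j
    induction j with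
    | zero => intro x; simp
    | succ j ih =>
      intro x
      rw [pow_succ', Perm.mul_apply]
      change g * (((σ ^ j) x : N) : G) * g⁻¹ = _
      rw [ih, pow_succ', mul_inv_rev]
      group
  have hσ1 : σ ^ p ^ k = 1 := Equiv.ext fun x => Subtype.ext (by rw [hσ, hk]; simp)
  have hone : σ 1 = 1 := Subtype.ext (by change g * ((1 : N) : G) * g⁻¹ = _; simp)
  obtain ⟨z, hz, hz1⟩ := Equiv.Perm.exists_fixed_point_of_prime'
    (by rwa [← Nat.card_eq_fintype_card]) hσ1 hone
  refine ⟨z, z.2, fun h => hz1 (Subtype.ext h), ?_⟩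
  have : g * (z : G) * g⁻¹ = z := congrArg Subtype.val hz
  exact mul_inv_eq_iff_eq_mul.mp this

section regular

variable {n : ℕ} {N : Subgroup (Perm (ZMod n))} (hab : ∀ a ∈ N, ∀ b ∈ N, a * b = b * a)
  (htr : ∀ x, ∃ e ∈ N, e 0 = x)

include hab htr in
theorem eq_of_apply_eq {e f : Perm (ZMod n)} (he : e ∈ N) (hf : f ∈ N) {x : ZMod n}
    (h : e x = f x) : e = f := by
  ext y
  obtain ⟨u, hu, hux⟩ := htr x
  obtain ⟨v, hv, hvy⟩ := htr y
  have h1 : y = (v * u⁻¹) x := by
    rw [Perm.mul_apply, ← hux, show u⁻¹ (u 0) = 0 from u.symm_apply_apply 0, hvy]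
  have hm : v * u⁻¹ ∈ N := N.mul_mem hv (N.inv_mem hu)
  have h2 : e ((v * u⁻¹) x) = (v * u⁻¹) (e x) := Equiv.congr_fun (hab e he _ hm) x
  have h3 : f ((v * u⁻¹) x) = (v * u⁻¹) (f x) := Equiv.congr_fun (hab f hf _ hm) x
  rw [h1, h2, h3, h]

include hab htr in
theorem card_regular : Nat.card N = n ∨ n = 0 := by
  classical
  rcases Nat.eq_zero_or_pos n with h | h
  · exact Or.inr h
  · have : NeZero n := ⟨h.ne'⟩
    left
    have e : N ≃ ZMod n := Equiv.ofBijective (fun e => (e : Perm (ZMod n)) 0)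
      ⟨fun a b hab' => Subtype.ext (eq_of_apply_eq hab htr a.2 b.2 hab'),
        fun x => by obtain ⟨e, he, hex⟩ := htr x; exact ⟨⟨e, he⟩, hex⟩⟩
    rw [Nat.card_congr e, Nat.card_zmod]

end regular

variable {p : ℕ} [hp : Fact p.Prime]

theorem transl_mem {a : ℕ} (ha : 1 ≤ a) {n : ℕ} (hn : n = p ^ a) {N : Subgroup (Perm (ZMod n))}
    (hab : ∀ u ∈ N, ∀ v ∈ N, u * v = v * u) (hexp : ∀ u ∈ N, u ^ p = 1)
    (htr : ∀ x, ∃ e ∈ N, e 0 = x)
    (hT : ∀ u ∈ N, transl _ * u * (transl _)⁻¹ ∈ N) : transl n ^ p ^ (a - 1) ∈ N := by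
  subst hn
  have hp0 : 0 < p ^ a := pow_pos hp.out.pos a
  have : NeZero (p ^ a) := ⟨hp0.ne'⟩
  have hcard : Nat.card N = p ^ a := (card_regular hab htr).resolve_right hp0.ne'
  have hT1 : transl (p ^ a) ^ p ^ a = 1 := Equiv.ext fun x => by
    rw [transl_pow, ZMod.natCast_self, add_zero, Perm.one_apply]
  obtain ⟨z, hzN, hz1, hzT⟩ := exists_commute (p := p)
    (by rw [hcard]; exact dvd_pow_self p (by omega)) hT hT1
  have hz : z = transl (p ^ a) ^ (z 0).val := Equiv.ext fun x => by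
    rw [transl_pow_val]
    obtain ⟨m, rfl⟩ : ∃ m : ℕ, (m : ZMod (p ^ a)) = x := ⟨x.val, ZMod.natCast_zmod_val x⟩
    induction m with
    | zero => simp
    | succ m ih =>
      have h := Equiv.congr_fun hzT (m : ZMod (p ^ a))
      simp only [Perm.mul_apply, transl, Equiv.coe_addRight] at h
      push_cast
      rw [← h, ih]; ring
  have hb0 : (z 0).val ≠ 0 := fun h => hz1 (by rw [hz, h, pow_zero])
  have hblt : (z 0).val < p ^ a := ZMod.val_lt _
  have hpb : p ^ a ∣ (z 0).val * p := by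
    have h := hexp z hzN
    rw [hz, ← pow_mul] at h
    have := Equiv.congr_fun h 0
    rw [transl_pow, Perm.one_apply, zero_add] at this
    exact (ZMod.natCast_eq_zero_iff _ _).mp this
  obtain ⟨c, hc⟩ : p ^ (a - 1) ∣ (z 0).val := by
    have e : p ^ a = p ^ (a - 1) * p := by rw [← pow_succ, Nat.sub_add_cancel ha]
    have hpb' : p ^ (a - 1) * p ∣ (z 0).val * p := e.symm.dvd.trans hpb
    exact Nat.dvd_of_mul_dvd_mul_right hp.out.pos hpb'
  have hcp : Nat.Coprime p c := by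
    refine (hp.out.coprime_iff_not_dvd).mpr fun ⟨m, hm⟩ => ?_
    have : (z 0).val = p ^ a * m := by
      rw [hc, hm, ← mul_assoc, ← pow_succ, Nat.sub_add_cancel ha]
    rcases Nat.eq_zero_or_pos m with h | h
    · exact hb0 (by rw [this, h, mul_zero])
    · exact absurd hblt (by rw [this]; exact not_lt.mpr (Nat.le_mul_of_pos_right _ h))
  obtain ⟨c', hc'⟩ := Nat.exists_mul_mod_eq_one_of_coprime (Nat.Coprime.symm hcp) hp.out.one_lt
  have h : z ^ c' = transl (p ^ a) ^ p ^ (a - 1) := by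
    rw [hz, hc, ← pow_mul]
    have e : p ^ (a - 1) * c * c' = p ^ a * (c * c' / p) + p ^ (a - 1) := by
      conv_lhs => rw [mul_assoc, ← Nat.div_add_mod (c * c') p, hc'.2, mul_add, mul_one,
        ← mul_assoc, ← pow_succ, Nat.sub_add_cancel ha]
    rw [e, pow_add, pow_mul, hT1, one_pow, one_mul]
  exact h ▸ N.pow_mem hzN c'

theorem cast_transl {n d : ℕ} (h : d ∣ n) (x : ZMod n) :
    ZMod.castHom h (ZMod d) (transl n x) = transl d (ZMod.castHom h (ZMod d) x) := by
  simp only [transl, Equiv.coe_addRight, map_add, map_one]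

theorem cast_transl_inv {n d : ℕ} (h : d ∣ n) (x : ZMod n) :
    ZMod.castHom h (ZMod d) ((transl n)⁻¹ x) = (transl d)⁻¹ (ZMod.castHom h (ZMod d) x) := by
  rw [eq_comm, Perm.inv_eq_iff_eq, ← cast_transl]
  exact congrArg _ ((transl n).apply_symm_apply x).symm

/-- The permutations of the classes mod `d` induced by a group preserving them. -/
noncomputable def proj {n d : ℕ} [NeZero d] (h : d ∣ n) (G : Subgroup (Perm (ZMod n)))
    (H : ∀ g ∈ G, ∀ x y, ZMod.castHom h (ZMod d) x = ZMod.castHom h (ZMod d) y →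
      ZMod.castHom h (ZMod d) (g x) = ZMod.castHom h (ZMod d) (g y)) : G →* Perm (ZMod d) :=
  have hq : ∀ z : ZMod d, ZMod.castHom h (ZMod d) (z.val : ZMod n) = z := fun z => by
    rw [map_natCast, ZMod.natCast_zmod_val]
  { toFun := fun g =>
      { toFun := fun z => ZMod.castHom h (ZMod d) (g.1 (z.val : ZMod n))
        invFun := fun z => ZMod.castHom h (ZMod d) (g.1⁻¹ (z.val : ZMod n))
        left_inv := fun z => by
          have := H g.1⁻¹ (inv_mem g.2) _ (g.1 (z.val : ZMod n))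
            (hq (ZMod.castHom h (ZMod d) (g.1 (z.val : ZMod n))))
          dsimp only
          rw [this]
          simp
        right_inv := fun z => by
          have := H g.1 g.2 _ (g.1⁻¹ (z.val : ZMod n))
            (hq (ZMod.castHom h (ZMod d) (g.1⁻¹ (z.val : ZMod n))))
          dsimp only
          rw [this]
          simp }
    map_one' := Equiv.ext fun z => hq z
    map_mul' := fun g k => Equiv.ext fun z => by
      refine H g.1 g.2 _ _ ?_
      exact (hq _).symm }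

theorem proj_apply {n d : ℕ} [NeZero d] (h : d ∣ n) (G : Subgroup (Perm (ZMod n)))
    (H : ∀ g ∈ G, ∀ x y, ZMod.castHom h (ZMod d) x = ZMod.castHom h (ZMod d) y →
      ZMod.castHom h (ZMod d) (g x) = ZMod.castHom h (ZMod d) (g y)) (g : G) (x : ZMod n) :
    proj h G H g (ZMod.castHom h (ZMod d) x) = ZMod.castHom h (ZMod d) (g.1 x) := by
  refine H g.1 g.2 _ _ ?_
  rw [map_natCast, ZMod.natCast_zmod_val]

theorem proj_transl {n d : ℕ} [NeZero d] (h : d ∣ n) (G : Subgroup (Perm (ZMod n)))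
    (H : ∀ g ∈ G, ∀ x y, ZMod.castHom h (ZMod d) x = ZMod.castHom h (ZMod d) y →
      ZMod.castHom h (ZMod d) (g x) = ZMod.castHom h (ZMod d) (g y)) (hT : transl n ∈ G) :
    proj h G H ⟨transl n, hT⟩ = transl d := by
  ext z
  obtain ⟨x, rfl⟩ := ZMod.ringHom_surjective (ZMod.castHom h (ZMod d)) z
  rw [proj_apply, cast_transl]

theorem no_regular (hp3 : 3 ≤ p) : ∀ (a : ℕ), 2 ≤ a → ∀ (N : Subgroup (Perm (ZMod (p ^ a)))),
    (∀ u ∈ N, ∀ v ∈ N, u * v = v * u) → (∀ u ∈ N, u ^ p = 1) → (∀ x, ∃ e ∈ N, e 0 = x) →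
    (∀ u ∈ N, transl _ * u * (transl _)⁻¹ ∈ N) → False := by
  intro a ha
  induction a, ha using Nat.le_induction with
  | base =>
    intro N hab hexp htr hT
    have : NeZero (p ^ 2) := ⟨(pow_pos hp.out.pos 2).ne'⟩
    have : NeZero p := ⟨hp.out.ne_zero⟩
    have hTp : transl (p ^ 2) ^ p ∈ N := by simpa using transl_mem (by norm_num) rfl hab hexp htr hT
    have hpk : ∀ c : ℕ, transl (p ^ 2) ^ (p * c) ∈ N := fun c => by
      rw [pow_mul]; exact N.pow_mem hTp c
    have hd : p ∣ p ^ 2 := dvd_pow_self p two_ne_zero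
    set q := ZMod.castHom hd (ZMod p) with hq
    have hker : ∀ w : ZMod (p ^ 2), q w = 0 → ∃ c : ℕ, w = ((p * c : ℕ) : ZMod (p ^ 2)) := by
      intro w hw
      rw [← ZMod.natCast_zmod_val w, map_natCast, ZMod.natCast_eq_zero_iff] at hw
      obtain ⟨c, hc⟩ := hw
      exact ⟨c, by rw [← hc, ZMod.natCast_zmod_val]⟩
    have H : ∀ e ∈ N, ∀ x y, q x = q y → q (e x) = q (e y) := by
      intro e he x y hxy
      obtain ⟨c, hc⟩ := hker (y - x) (by rw [map_sub, hxy, sub_self])
      have h1 := Equiv.congr_fun (hab e he _ (hpk c)) x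
      rw [Perm.mul_apply, Perm.mul_apply, transl_pow, transl_pow, ← hc, add_sub_cancel] at h1
      rw [h1, hc, map_add, map_natCast, Nat.cast_mul, ZMod.natCast_self, zero_mul, add_zero]
    set φ := proj hd N H with hφ
    obtain ⟨e, he, he0⟩ := htr 1
    -- the image of `N` contains the translation by one
    have hN1 : transl p ∈ φ.range := by
      have hab' : ∀ u ∈ φ.range, ∀ v ∈ φ.range, u * v = v * u := by
        rintro _ ⟨u, rfl⟩ _ ⟨v, rfl⟩
        rw [← map_mul, ← map_mul]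
        exact congrArg φ (Subtype.ext (hab _ u.2 _ v.2))
      obtain ⟨f, hf, hf0⟩ := htr 0
      have hexp' : ∀ u ∈ φ.range, u ^ p = 1 := by
        rintro _ ⟨u, rfl⟩
        rw [← map_pow, show u ^ p = 1 from Subtype.ext (hexp _ u.2), map_one]
      have htr' : ∀ z, ∃ u ∈ φ.range, u 0 = z := by
        intro z
        obtain ⟨x, rfl⟩ := ZMod.ringHom_surjective q z
        obtain ⟨u, hu, hux⟩ := htr x
        refine ⟨φ ⟨u, hu⟩, ⟨_, rfl⟩, ?_⟩
        rw [← map_zero q, hφ, proj_apply, hux]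
      have hT' : ∀ u ∈ φ.range, transl p * u * (transl p)⁻¹ ∈ φ.range := by
        rintro _ ⟨u, rfl⟩
        refine ⟨⟨_, hT _ u.2⟩, ?_⟩
        ext z
        obtain ⟨x, rfl⟩ := ZMod.ringHom_surjective q z
        rw [Perm.mul_apply, Perm.mul_apply, hq, ← cast_transl_inv hd, hφ, proj_apply,
          proj_apply, ← cast_transl]
        rfl
      simpa using transl_mem le_rfl (pow_one p).symm hab' hexp' htr' hT'
    obtain ⟨u, hu⟩ := hN1
    have hq1 : q (e 1) = q 2 := by
      have hc := Equiv.congr_fun (congrArg φ (Subtype.ext (hab _ he _ u.2) :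
        (⟨e, he⟩ : N) * u = u * ⟨e, he⟩)) (q 0)
      rw [map_mul, map_mul, hu, Perm.mul_apply, Perm.mul_apply, hφ, proj_apply, he0] at hc
      have e1 : transl p (q 0) = q 1 := by simp [transl]
      rw [e1, proj_apply] at hc
      rw [← hq] at hc
      rw [hc]
      simp [transl, one_add_one_eq_two, map_ofNat]
    obtain ⟨c, hc⟩ := hker (e 1 - 2) (by rw [map_sub, hq1, sub_self])
    have hstep : ∀ y, e (y + 1) = e y + 1 + ((p * c : ℕ) : ZMod (p ^ 2)) := by
      have hf : transl (p ^ 2) ^ (p * c) * (transl _ * e * (transl _)⁻¹) = e := by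
        refine eq_of_apply_eq hab htr (N.mul_mem (hpk c) (hT e he)) he (x := 1) ?_
        have : (transl (p ^ 2))⁻¹ 1 = 0 := by rw [Perm.inv_eq_iff_eq]; simp [transl]
        rw [Perm.mul_apply, Perm.mul_apply, Perm.mul_apply, this, he0, transl_pow, ← hc]
        simp [transl]; ring
      intro y
      have := Equiv.congr_fun hf (y + 1)
      have hy : (transl (p ^ 2))⁻¹ (y + 1) = y := by rw [Perm.inv_eq_iff_eq]; simp [transl]
      rw [Perm.mul_apply, Perm.mul_apply, Perm.mul_apply, hy, transl_pow] at this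
      rw [← this]; simp [transl]
    have haff : ∀ i : ℕ, e (i : ZMod (p ^ 2)) = 1 + i + i * ((p * c : ℕ) : ZMod (p ^ 2)) := by
      intro i
      induction i with
      | zero => simp [he0]
      | succ i ih => push_cast at ih ⊢; rw [hstep, ih]; push_cast; ring
    have hpow : ∀ j : ℕ, (e ^ j) 0 = ((j + p * c * j.choose 2 : ℕ) : ZMod (p ^ 2)) := by
      intro j
      induction j with
      | zero => simp
      | succ j ih =>
        have hch : (j + 1).choose 2 = j + j.choose 2 := by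
          rw [Nat.choose_succ_succ', Nat.choose_one_right]
        rw [pow_succ' e j, Perm.mul_apply, ih, haff, hch]
        have h0 : ((p ^ 2 : ℕ) : ZMod (p ^ 2)) = 0 := ZMod.natCast_self _
        push_cast at h0 ⊢
        linear_combination ((c : ZMod (p ^ 2)) ^ 2 * (j.choose 2 : ZMod (p ^ 2))) * h0
    have := hpow p
    rw [hexp e he, Perm.one_apply] at this
    obtain ⟨t, ht⟩ := hp.out.dvd_choose_self two_ne_zero (by omega : 2 < p)
    rw [ht, eq_comm, ZMod.natCast_eq_zero_iff, show p + p * c * (p * t) = p + p ^ 2 * (c * t) by ring,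
      Nat.dvd_add_left (dvd_mul_right _ _)] at this
    have := Nat.le_of_dvd hp.out.pos this
    nlinarith
  | succ a ha ih =>
    intro N hab hexp htr hT
    have : NeZero (p ^ (a + 1)) := ⟨(pow_pos hp.out.pos _).ne'⟩
    have : NeZero (p ^ a) := ⟨(pow_pos hp.out.pos _).ne'⟩
    have hTp : transl (p ^ (a + 1)) ^ p ^ a ∈ N := transl_mem (Nat.succ_pos a) rfl hab hexp htr hT
    have hd : p ^ a ∣ p ^ (a + 1) := pow_dvd_pow p (Nat.le_succ a)
    set q := ZMod.castHom hd (ZMod (p ^ a)) with hq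
    have H : ∀ e ∈ N, ∀ x y, q x = q y → q (e x) = q (e y) := by
      intro e he x y hxy
      have hw : q (y - x) = 0 := by rw [map_sub, hxy, sub_self]
      rw [← ZMod.natCast_zmod_val (y - x), map_natCast, ZMod.natCast_eq_zero_iff] at hw
      obtain ⟨c, hc⟩ := hw
      have hyx : y - x = ((p ^ a * c : ℕ) : ZMod (p ^ (a + 1))) := by
        rw [← hc, ZMod.natCast_zmod_val]
      have hm : transl (p ^ (a + 1)) ^ (p ^ a * c) ∈ N := by rw [pow_mul]; exact N.pow_mem hTp c
      have h1 := Equiv.congr_fun (hab e he _ hm) x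
      rw [Perm.mul_apply, Perm.mul_apply, transl_pow, transl_pow, ← hyx, add_sub_cancel] at h1
      rw [h1, hyx, map_add, map_natCast, Nat.cast_mul, ZMod.natCast_self, zero_mul, add_zero]
    set φ := proj hd N H with hφ
    refine ih φ.range ?_ ?_ ?_ ?_
    · rintro _ ⟨u, rfl⟩ _ ⟨v, rfl⟩
      rw [← map_mul, ← map_mul]
      exact congrArg φ (Subtype.ext (hab _ u.2 _ v.2))
    · rintro _ ⟨u, rfl⟩
      rw [← map_pow, show u ^ p = 1 from Subtype.ext (hexp _ u.2), map_one]
    · intro z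
      obtain ⟨x, rfl⟩ := ZMod.ringHom_surjective q z
      obtain ⟨u, hu, hux⟩ := htr x
      refine ⟨φ ⟨u, hu⟩, ⟨_, rfl⟩, ?_⟩
      rw [← map_zero q, hφ, proj_apply, hux]
    · rintro _ ⟨u, rfl⟩
      refine ⟨⟨_, hT _ u.2⟩, ?_⟩
      ext z
      obtain ⟨x, rfl⟩ := ZMod.ringHom_surjective q z
      rw [Perm.mul_apply, Perm.mul_apply, hq, ← cast_transl_inv hd, hφ, proj_apply,
        proj_apply, ← cast_transl]
      rfl

/-- A solvable group containing the translation by one shifts the classes mod `p` by its elements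
of `p`-power order. -/
theorem shift (hp3 : 3 ≤ p) : ∀ (a : ℕ) (ha : 1 ≤ a) (G : Subgroup (Perm (ZMod (p ^ a)))),
    Group.IsSolvable G → transl _ ∈ G → ∀ g ∈ G, (∃ k, g ^ p ^ k = 1) →
      ∀ x, ZMod.castHom (dvd_pow_self p (Nat.pos_iff_ne_zero.mp ha)) (ZMod p) (g x - x) =
        ZMod.castHom (dvd_pow_self p (Nat.pos_iff_ne_zero.mp ha)) (ZMod p) (g 0) := by
  intro a
  induction a using Nat.strong_induction_on with
  | _ a IH =>
  intro ha G hsol hT g hg ⟨k, hk⟩
  have hp0 : 0 < p ^ a := pow_pos hp.out.pos a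
  have : NeZero (p ^ a) := ⟨hp0.ne'⟩
  have : NeZero p := ⟨hp.out.ne_zero⟩
  have hpa1 : 1 < p ^ a := Nat.one_lt_pow (Nat.pos_iff_ne_zero.mp ha) hp.out.one_lt
  have : Nontrivial G := by
    refine ⟨⟨⟨transl _, hT⟩, 1, fun h => ?_⟩⟩
    have := Equiv.congr_fun (congrArg Subtype.val h) 0
    have : ((1 : ℕ) : ZMod (p ^ a)) = 0 := by simpa [transl] using this
    rw [ZMod.natCast_eq_zero_iff] at this
    exact absurd (Nat.le_of_dvd one_pos this) (not_le.mpr hpa1)
  obtain ⟨r, E, hr, hEn, hEne, hEab, hEexp⟩ := exists_elementary_normal G hsol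
  set N := E.map G.subtype with hN
  have hNab : ∀ u ∈ N, ∀ v ∈ N, u * v = v * u := by
    rintro _ ⟨u, hu, rfl⟩ _ ⟨v, hv, rfl⟩
    rw [← map_mul, ← map_mul, hEab u hu v hv]
  have hNexp : ∀ u ∈ N, u ^ r = 1 := by
    rintro _ ⟨u, hu, rfl⟩
    rw [← map_pow, hEexp u hu, map_one]
  have hNn : ∀ h ∈ G, ∀ u ∈ N, h * u * h⁻¹ ∈ N := by
    rintro h hh _ ⟨u, hu, rfl⟩
    exact ⟨⟨h, hh⟩ * u * ⟨h, hh⟩⁻¹, hEn.conj_mem u hu _, rfl⟩
  have hNT : ∀ (b : ZMod (p ^ a)) (u : Perm (ZMod (p ^ a))), u ∈ N →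
      (transl _ ^ b.val) * u * (transl _ ^ b.val)⁻¹ ∈ N := fun b u hu =>
    hNn _ (G.pow_mem hT _) u hu
  let O : AddSubgroup (ZMod (p ^ a)) :=
    { carrier := {b | ∃ u ∈ N, u 0 = b}
      zero_mem' := ⟨1, N.one_mem, rfl⟩
      add_mem' := by
        rintro b c ⟨u, hu, rfl⟩ ⟨v, hv, rfl⟩
        refine ⟨_, N.mul_mem (hNT (u 0) v hv) hu, ?_⟩
        have := conj_transl (u 0) 0 v
        rw [zero_add, add_comm] at this
        rw [Perm.mul_apply, this]
      neg_mem' := by
        rintro b ⟨u, hu, rfl⟩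
        refine ⟨_, hNT (-u 0) _ (N.inv_mem hu), ?_⟩
        have := conj_transl (-u 0) (u 0) u⁻¹
        rw [show u⁻¹ (u 0) = 0 from u.symm_apply_apply 0, add_neg_cancel, zero_add] at this
        exact this }
  have horb : ∀ x y, (∃ u ∈ N, u x = y) ↔ y - x ∈ O := by
    intro x y
    constructor
    · rintro ⟨u, hu, rfl⟩
      refine ⟨_, hNT (-x) u hu, ?_⟩
      have := conj_transl (-x) x u
      rw [add_neg_cancel, ← sub_eq_add_neg] at this
      exact this
    · rintro ⟨u, hu, hu0⟩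
      refine ⟨_, hNT x u hu, ?_⟩
      have := conj_transl x 0 u
      rw [zero_add, hu0, sub_add_cancel] at this
      exact this
  have hOne : ∃ b ∈ O, b ≠ 0 := by
    obtain ⟨u, hu, hu1⟩ := (Subgroup.ne_bot_iff_exists_ne_one.mp hEne)
      |> fun ⟨u, hu⟩ => (⟨u.1, u.2, fun h => hu (Subtype.ext h)⟩ : ∃ u : G, u ∈ E ∧ u ≠ 1)
    obtain ⟨x, hx⟩ : ∃ x, (u : Perm (ZMod (p ^ a))) x ≠ x := by
      by_contra hcon
      push Not at hcon
      exact hu1 (Subtype.ext (Equiv.ext hcon))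
    exact ⟨_, (horb x _).mp ⟨_, ⟨u, hu, rfl⟩, rfl⟩, sub_ne_zero.mpr hx⟩
  have hmem : ∀ b ∈ O, b ≠ 0 → ∃ v, v < a ∧ p ^ v ∣ b.val ∧
      ((p ^ v : ℕ) : ZMod (p ^ a)) ∈ O := by
    intro b hb hb0
    have hb1 : b.val ≠ 0 := fun h => hb0 ((ZMod.val_eq_zero b).mp h)
    obtain ⟨v, m, hm, hbm⟩ := Nat.exists_eq_pow_mul_and_not_dvd hb1 p hp.out.ne_one
    have hv : v < a := by
      by_contra hcon
      have h1 : p ^ a ∣ b.val := hbm ▸ Dvd.dvd.mul_right (pow_dvd_pow p (by omega)) m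
      exact absurd (Nat.le_of_dvd (Nat.pos_of_ne_zero hb1) h1) (not_le.mpr (ZMod.val_lt b))
    refine ⟨v, hv, hbm ▸ dvd_mul_right _ _, ?_⟩
    have hco : Nat.Coprime m (p ^ a) :=
      (Nat.Coprime.symm (hp.out.coprime_iff_not_dvd.mpr hm)).pow_right a
    obtain ⟨m', hm'⟩ := Nat.exists_mul_mod_eq_one_of_coprime hco hpa1
    have h1 : ((m * m' : ℕ) : ZMod (p ^ a)) = 1 := by
      rw [← ZMod.natCast_mod, hm'.2, Nat.cast_one]
    have h2 : ((p ^ v : ℕ) : ZMod (p ^ a)) = m' • b := by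
      conv_rhs => rw [← ZMod.natCast_zmod_val b, hbm, nsmul_eq_mul, ← Nat.cast_mul,
        show m' * (p ^ v * m) = p ^ v * (m * m') by ring, Nat.cast_mul (p ^ v) (m * m'), h1, mul_one]
    rw [h2]
    exact O.nsmul_mem hb m'
  classical
  have hex : ∃ v, ((p ^ v : ℕ) : ZMod (p ^ a)) ∈ O := ⟨a, by simp⟩
  set i := Nat.find hex with hi
  have hia : i < a := by
    obtain ⟨b, hb, hb0⟩ := hOne
    obtain ⟨v, hv, -, hv'⟩ := hmem b hb hb0
    exact lt_of_le_of_lt (Nat.find_min' hex hv') hv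
  have : NeZero (p ^ i) := ⟨(pow_pos hp.out.pos i).ne'⟩
  have hd : p ^ i ∣ p ^ a := pow_dvd_pow p hia.le
  set q := ZMod.castHom hd (ZMod (p ^ i)) with hq
  have hO : ∀ b, b ∈ O ↔ q b = 0 := by
    intro b
    rw [← ZMod.natCast_zmod_val b, map_natCast, ZMod.natCast_eq_zero_iff, ZMod.natCast_zmod_val]
    constructor
    · intro hb
      rcases eq_or_ne b 0 with h | h
      · simp [h]
      · obtain ⟨v, -, hv, hv'⟩ := hmem b hb h
        exact (pow_dvd_pow p (Nat.find_min' hex hv')).trans hv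
    · rintro ⟨m, hm⟩
      rw [← ZMod.natCast_zmod_val b, hm, mul_comm, Nat.cast_mul, ← nsmul_eq_mul]
      exact O.nsmul_mem (Nat.find_spec hex) m
  have H : ∀ h ∈ G, ∀ x y, q x = q y → q (h x) = q (h y) := by
    intro h hh x y hxy
    obtain ⟨u, hu, hux⟩ := (horb x y).mpr ((hO _).mpr (by rw [map_sub, hxy, sub_self]))
    have : h y - h x ∈ O := by
      refine (horb _ _).mp ⟨_, hNn h hh u hu, ?_⟩
      rw [Perm.mul_apply, Perm.mul_apply, show h⁻¹ (h x) = x from h.symm_apply_apply x, hux]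
    rw [hO, map_sub, sub_eq_zero] at this
    exact this.symm
  intro x
  rcases Nat.eq_zero_or_pos i with hi0 | hi0
  · -- `N` is regular
    have htr : ∀ x, ∃ u ∈ N, u 0 = x := fun x => by
      refine (horb 0 x).mpr ((hO _).mpr ?_)
      rw [← ZMod.natCast_zmod_val (x - 0), map_natCast, ZMod.natCast_eq_zero_iff, hi0]
      simp
    have hcard : Nat.card N = p ^ a := (card_regular hNab htr).resolve_right hp0.ne'
    have hrp : r = p := by
      obtain ⟨u, hu1⟩ : ∃ u : N, u ≠ 1 := by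
        have : Nontrivial N := Finite.one_lt_card_iff_nontrivial.mp (by omega)
        exact exists_ne 1
      have h1 : orderOf u ∣ r := orderOf_dvd_of_pow_eq_one (Subtype.ext (hNexp _ u.2))
      rcases (Nat.dvd_prime hr).mp h1 with h | h
      · exact absurd (orderOf_eq_one_iff.mp h) hu1
      · have h2 : orderOf u ∣ p ^ a := (orderOf_dvd_natCard u).trans hcard.dvd
        exact (Nat.prime_dvd_prime_iff_eq hr hp.out).mp (hr.dvd_of_dvd_pow (h ▸ h2))
    subst hrp
    rcases (show a = 1 ∨ 2 ≤ a by omega) with ha1 | ha2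
    swap
    · exact absurd (hNn _ hT) fun hc => no_regular hp3 a ha2 N hNab hNexp htr hc
    · obtain ⟨z, hzN, hz1, hzg⟩ := exists_commute (p := r)
        (by rw [hcard]; exact dvd_pow_self r (by omega)) (hNn g hg) hk
      have hTN : transl (r ^ a) ∈ N := by
        simpa [ha1] using transl_mem ha rfl hNab hNexp htr (hNn _ hT)
      have hz : ∀ y, z y = y + z 0 := by
        intro y
        obtain ⟨m, rfl⟩ : ∃ m : ℕ, (m : ZMod (r ^ a)) = y := ⟨y.val, ZMod.natCast_zmod_val y⟩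
        have := Equiv.congr_fun (hNab z hzN _ (N.pow_mem hTN m)) 0
        rw [Perm.mul_apply, Perm.mul_apply, transl_pow, transl_pow, zero_add, add_comm] at this
        exact this
      have hb : z 0 ≠ 0 := fun h => hz1 (Equiv.ext fun y => by rw [hz, h, add_zero]; rfl)
      have hg' : ∀ y, g (y + z 0) = g y + z 0 := fun y => by
        have := Equiv.congr_fun hzg y
        rw [Perm.mul_apply, Perm.mul_apply, hz y, hz (g y)] at this
        exact this
      have hg'' : ∀ m : ℕ, g (m • z 0) = g 0 + m • z 0 := by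
        intro m
        induction m with
        | zero => simp
        | succ m ih => rw [succ_nsmul, hg', ih, add_assoc]
      have hgen : ∃ m : ℕ, x = m • z 0 := by
        have : Fact (r ^ a).Prime := ⟨by rw [ha1, pow_one]; exact hp.out⟩
        exact ⟨(x / z 0).val, by rw [nsmul_eq_mul, ZMod.natCast_zmod_val, div_mul_cancel₀ x hb]⟩
      obtain ⟨m, rfl⟩ := hgen
      rw [hg'', add_sub_cancel_right]
  · set φ := proj hd G H with hφ
    have hsol' : Group.IsSolvable φ.range :=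
      Group.isSolvable_of_surjective (f := φ.rangeRestrict) φ.rangeRestrict_surjective
    have key := IH i hia hi0 φ.range hsol' ⟨⟨_, hT⟩, proj_transl hd G H hT⟩ (φ ⟨g, hg⟩) ⟨_, rfl⟩
      ⟨k, by rw [← map_pow, show (⟨g, hg⟩ : G) ^ p ^ k = 1 from Subtype.ext hk, map_one]⟩ (q x)
    have e0 : φ ⟨g, hg⟩ 0 = q (g 0) := by
      rw [← map_zero q, hφ, hq, proj_apply]
    rw [e0, hφ, hq, proj_apply, ← map_sub, ← RingHom.comp_apply, ← RingHom.comp_apply,
      RingHom.ext_zmod ((ZMod.castHom _ (ZMod p)).comp (ZMod.castHom hd _))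
        (ZMod.castHom (dvd_pow_self p (Nat.pos_iff_ne_zero.mp ha)) (ZMod p))] at key
    exact key

end Cfsg.Agent.AltPPair
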