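import Mathlib
import Cfsg.Agent.AltPPair.SolvShift

/-!
Products of an `l`-cycle, `l = p ^ a`, with permutations given block by block.
-/

set_option autoImplicit false

namespace Cfsg.Agent.AltPPair

open Equiv

/-- The product is not a `p`-element and the pair generates a non-solvable group. -/
def Good {G : Type*} [Group G] (p : ℕ) (σ τ : G) : Prop :=
  (¬ ∃ k : ℕ, orderOf (σ * τ) = p ^ k) ∧
    ¬ Group.IsSolvable ↥(Subgroup.closure ({σ, τ} : Set G))

section transfer

variable {G H : Type*} [Group G] [Group H] {p : ℕ} (hp : p.Prime) (φ : G →* H) {σ τ : G}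

theorem map_closure_pair : (Subgroup.closure ({σ, τ} : Set G)).map φ =
    Subgroup.closure ({φ σ, φ τ} : Set H) := by
  rw [MonoidHom.map_closure, Set.image_pair]

include hp in
theorem Good.of_map (h : Good p (φ σ) (φ τ)) : Good p σ τ := by
  refine ⟨fun ⟨k, hk⟩ => ?_, fun hs => ?_⟩
  · have h1 : orderOf (φ σ * φ τ) ∣ p ^ k := by rw [← map_mul, ← hk]; exact orderOf_map_dvd φ _
    obtain ⟨j, -, hj⟩ := (Nat.dvd_prime_pow hp).mp h1
    exact h.1 ⟨j, hj⟩
  · refine h.2 ?_
    rw [← map_closure_pair φ]
    exact Group.isSolvable_of_surjective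
      (f := φ.subgroupMap (Subgroup.closure ({σ, τ} : Set G))) (φ.subgroupMap_surjective _)

theorem Good.map (h : Good p σ τ) (hφ : Function.Injective φ) : Good p (φ σ) (φ τ) := by
  refine ⟨fun ⟨k, hk⟩ => h.1 ⟨k, by rwa [← map_mul, orderOf_injective φ hφ] at hk⟩, fun hs => ?_⟩
  refine h.2 ?_
  rw [← map_closure_pair φ] at hs
  exact Group.isSolvable_of_isSolvable_injective
    (f := φ.subgroupMap (Subgroup.closure ({σ, τ} : Set G)))
    fun x y hxy => Subtype.ext (hφ (congrArg Subtype.val hxy))

theorem Good.swap (h : Good p σ τ) : Good p τ σ := by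
  refine ⟨fun ⟨k, hk⟩ => h.1 ⟨k, ?_⟩, by rw [Set.pair_comm]; exact h.2⟩
  rw [show σ * τ = σ * (τ * σ) * σ⁻¹ by group,
    ← orderOf_injective (MulAut.conj σ).toMonoidHom (MulAut.conj σ).injective (τ * σ)] at *
  simpa [mul_assoc] using hk

end transfer

theorem finRotate_val (l : ℕ) (i : Fin l) : (finRotate l i : ℕ) = ((i : ℕ) + 1) % l := by
  rcases l with _ | n
  · exact i.elim0
  · rw [finRotate_apply, Fin.val_add]
    simp

/-- A criterion: a closed orbit of length prime to `p` and two displacements distinct mod `p`. -/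
theorem good_of_orbit {p : ℕ} [hp : Fact p.Prime] (hp3 : 3 ≤ p) {l a : ℕ} (hl : l = p ^ a)
    (ha : 1 ≤ a) (D : Perm (Fin l)) (hD : ∃ s, D ^ p ^ s = 1) (f : ℕ → ℕ)
    (hf : ∀ i : Fin l, (D i : ℕ) = f i) (w : ℕ) (hw1 : 2 ≤ w) (hwp : ¬ p ∣ w)
    (hend : (fun x => f x + 1)^[w] 0 = l)
    (hmid : ∀ j, 0 < j → j < w → 0 < (fun x => f x + 1)^[j] 0 ∧ (fun x => f x + 1)^[j] 0 < l)
    (x y : ℕ) (hx : x < l) (hy : y < l)
    (hxy : (f x : ZMod p) - x ≠ (f y : ZMod p) - y) : Good p (finRotate l) D := by
  have hl0 : 0 < l := hl ▸ pow_pos hp.out.pos a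
  refine ⟨fun ⟨s, hs⟩ => ?_, fun hsol => hxy ?_⟩
  · set g := fun x => f x + 1 with hg
    have step : ∀ i : Fin l, (((finRotate l) * D) i : ℕ) = g i % l := fun i => by
      rw [Perm.mul_apply, finRotate_val, hf]
    have iter : ∀ j, j < w → ((((finRotate l) * D) ^ j) ⟨0, hl0⟩ : ℕ) = g^[j] 0 := by
      intro j
      induction j with
      | zero => intro _; simp
      | succ j ih =>
        intro hj
        rw [pow_succ', Perm.mul_apply, step, ih (by omega), ← Function.iterate_succ_apply' g j 0]
        exact Nat.mod_eq_of_lt (hmid (j + 1) (Nat.succ_pos j) hj).2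
    have hfix : (((finRotate l) * D) ^ w) ⟨0, hl0⟩ = ⟨0, hl0⟩ := by
      obtain ⟨v, rfl⟩ : ∃ v, w = v + 1 := ⟨w - 1, by omega⟩
      refine Fin.ext ?_
      rw [pow_succ', Perm.mul_apply, step, iter v (Nat.lt_succ_self v),
        ← Function.iterate_succ_apply' g v 0, hend]
      simp
    have hdiv : w ∣ p ^ s := by
      have h1 : (((finRotate l) * D) ^ p ^ s) ⟨0, hl0⟩ = ⟨0, hl0⟩ := by
        rw [← hs, pow_orderOf_eq_one]; rfl
      rw [← Nat.mod_add_div (p ^ s) w, pow_add, pow_mul, Perm.mul_apply,
        Perm.pow_apply_eq_self_of_apply_eq_self hfix] at h1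
      refine Nat.dvd_of_mod_eq_zero (by_contra fun hne => ?_)
      have h2 := congrArg Fin.val h1
      rw [iter _ (Nat.mod_lt _ (by omega))] at h2
      exact (hmid _ (Nat.pos_of_ne_zero hne) (Nat.mod_lt _ (by omega))).1.ne' h2
    obtain ⟨j, -, hj⟩ := (Nat.dvd_prime_pow hp.out).mp hdiv
    rcases j with _ | j
    · rw [pow_zero] at hj; omega
    · exact hwp (hj ▸ dvd_pow_self p (Nat.succ_ne_zero j))
  · subst hl
    have : NeZero (p ^ a) := ⟨hl0.ne'⟩
    let e : Fin (p ^ a) ≃ ZMod (p ^ a) :=
      { toFun := fun i => ((i : ℕ) : ZMod (p ^ a))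
        invFun := fun z => ⟨z.val, ZMod.val_lt z⟩
        left_inv := fun i => Fin.ext (by simp [ZMod.val_natCast, Nat.mod_eq_of_lt i.2])
        right_inv := fun z => by simp }
    let φ : Perm (Fin (p ^ a)) →* Perm (ZMod (p ^ a)) := e.permCongrHom.toMonoidHom
    have hφ : ∀ (σ : Perm (Fin (p ^ a))) (i : Fin (p ^ a)),
        φ σ ((i : ℕ) : ZMod (p ^ a)) = ((σ i : ℕ) : ZMod (p ^ a)) := by
      intro σ i
      change e.permCongr σ (e i) = e (σ i)
      rw [Equiv.permCongr_apply, Equiv.symm_apply_apply]
    have hC : φ (finRotate (p ^ a)) = transl (p ^ a) := by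
      ext z
      obtain ⟨i, rfl⟩ := e.surjective z
      change φ (finRotate (p ^ a)) ((i : ℕ) : ZMod (p ^ a)) = _
      rw [hφ, finRotate_val, ZMod.natCast_mod]
      simp [transl, e]
    have : Group.IsSolvable ↥((Subgroup.closure
        ({finRotate (p ^ a), D} : Set (Perm (Fin (p ^ a))))).map φ) :=
      Group.isSolvable_of_surjective (f := φ.subgroupMap _) (φ.subgroupMap_surjective _)
    obtain ⟨s, hs⟩ := hD
    have key := shift (p := p) hp3 a ha _ this
      ⟨_, Subgroup.subset_closure (Set.mem_insert _ _), hC⟩ (φ D)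
      ⟨_, Subgroup.subset_closure (Set.mem_insert_of_mem _ rfl), rfl⟩
      ⟨s, by rw [← map_pow, hs, map_one]⟩
    have hx' := key ((x : ℕ) : ZMod (p ^ a))
    have hy' := key ((y : ℕ) : ZMod (p ^ a))
    rw [show (φ D) ((x : ℕ) : ZMod (p ^ a)) = _ from hφ D ⟨x, hx⟩, hf, map_sub, map_natCast,
      map_natCast] at hx'
    rw [show (φ D) ((y : ℕ) : ZMod (p ^ a)) = _ from hφ D ⟨y, hy⟩, hf, map_sub, map_natCast,
      map_natCast] at hy'
    exact hx'.trans hy'.symm

/-- Total length of a list of blocks, `(k, _)` standing for a block of length `2 * k + 1`. -/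
def tot : List (ℕ × Bool) → ℕ
  | [] => 0
  | (k, _) :: L => (2 * k + 1) + tot L

/-- Length of the orbit of `0`. -/
def wt : List (ℕ × Bool) → ℕ
  | [] => 0
  | (k, b) :: L => (if b then 2 * k + 1 else 1) + wt L

/-- The block permutation on naturals. -/
def blockFun : List (ℕ × Bool) → ℕ → ℕ
  | [], x => x
  | (k, b) :: L, x =>
    if x < 2 * k + 1 then (if b then (x + 1) % (2 * k + 1) else (x + 2 * k) % (2 * k + 1))
    else (2 * k + 1) + blockFun L (x - (2 * k + 1))

/-- The block permutation. -/
def blockPerm : (L : List (ℕ × Bool)) → Perm (Fin (tot L))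
  | [] => 1
  | (k, b) :: L => finSumFinEquiv.permCongr
      (Equiv.Perm.sumCongr (if b then finRotate (2 * k + 1) else (finRotate (2 * k + 1))⁻¹)
        (blockPerm L))

theorem blockPerm_val : ∀ (L : List (ℕ × Bool)) (i : Fin (tot L)),
    (blockPerm L i : ℕ) = blockFun L i
  | [], i => i.elim0
  | (k, b) :: L, i => by
    change ((finSumFinEquiv.permCongr _ : Perm (Fin ((2 * k + 1) + tot L))) i : ℕ) = _
    obtain ⟨z, rfl⟩ := (finSumFinEquiv (m := 2 * k + 1) (n := tot L)).surjective i
    rw [Equiv.permCongr_apply, Equiv.symm_apply_apply]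
    rcases z with j | j
    · rw [Equiv.Perm.sumCongr_apply, Sum.map_inl, finSumFinEquiv_apply_left,
        finSumFinEquiv_apply_left, Fin.val_castAdd, Fin.val_castAdd]
      simp only [blockFun]
      rw [if_pos j.2]
      cases b
      · simp only [Bool.false_eq_true, if_false]
        set j' := (finRotate (2 * k + 1))⁻¹ j with hj'
        have h1 : finRotate (2 * k + 1) j' = j := (finRotate (2 * k + 1)).apply_symm_apply j
        have h2 := congrArg Fin.val h1
        rw [finRotate_val] at h2
        have h3 := j'.2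
        rcases Nat.lt_or_ge ((j' : ℕ) + 1) (2 * k + 1) with h | h
        · rw [Nat.mod_eq_of_lt h] at h2
          rw [show (j : ℕ) + 2 * k = (j' : ℕ) + (2 * k + 1) by omega, Nat.add_mod_right,
            Nat.mod_eq_of_lt h3]
        · have : (j' : ℕ) = 2 * k := by omega
          rw [show (j' : ℕ) + 1 = 2 * k + 1 by omega, Nat.mod_self] at h2
          rw [← h2, Nat.zero_add, Nat.mod_eq_of_lt (by omega), this]
      · simp only [if_true]
        exact finRotate_val _ j
    · rw [Equiv.Perm.sumCongr_apply, Sum.map_inr, finSumFinEquiv_apply_right,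
        finSumFinEquiv_apply_right, Fin.val_natAdd, Fin.val_natAdd]
      simp only [blockFun]
      rw [if_neg (by omega), Nat.add_sub_cancel_left, blockPerm_val L j]

theorem orbit_blocks : ∀ (L : List (ℕ × Bool)),
    (fun x => blockFun L x + 1)^[wt L] 0 = tot L ∧
      ∀ j, 0 < j → j < wt L →
        0 < (fun x => blockFun L x + 1)^[j] 0 ∧ (fun x => blockFun L x + 1)^[j] 0 < tot L
  | [] => ⟨rfl, fun j h1 h2 => by simp [wt] at h2⟩
  | (k, b) :: L => by
    obtain ⟨hend, hmid⟩ := orbit_blocks L
    set m := 2 * k + 1 with hm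
    set g := fun x => blockFun ((k, b) :: L) x + 1 with hg
    set g' := fun x => blockFun L x + 1 with hg'
    have hshift : ∀ j, g^[j] m = m + g'^[j] 0 := by
      intro j
      induction j with
      | zero => rfl
      | succ j ih =>
        rw [Function.iterate_succ_apply', Function.iterate_succ_apply', ih]
        simp only [hg, hg', blockFun]
        rw [if_neg (by omega), ← hm, Nat.add_sub_cancel_left, Nat.add_assoc]
    -- inside the first block
    have hfirst : ∃ u, u = (if b then m else 1) ∧ g^[u] 0 = m ∧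
        ∀ j, 0 < j → j < u → 0 < g^[j] 0 ∧ g^[j] 0 < m := by
      cases b
      · refine ⟨1, rfl, ?_, fun j h1 h2 => by omega⟩
        simp only [Function.iterate_one, hg, blockFun, Bool.false_eq_true, if_false]
        rw [if_pos (by omega), Nat.mod_eq_of_lt (by omega)]
        omega
      · have e1 : ∀ j ≤ k, g^[j] 0 = 2 * j := by
          intro j
          induction j with
          | zero => intro _; rfl
          | succ j ih =>
            intro hj
            rw [Function.iterate_succ_apply', ih (by omega)]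
            simp only [hg, blockFun, if_true]
            rw [if_pos (by omega), Nat.mod_eq_of_lt (by omega)]
            omega
        have e2 : ∀ i ≤ k, g^[k + 1 + i] 0 = 1 + 2 * i := by
          intro i
          induction i with
          | zero =>
            intro _
            rw [Function.iterate_succ_apply', e1 k le_rfl]
            simp [hg, blockFun]
          | succ i ih =>
            intro hi
            rw [← Nat.add_assoc, Function.iterate_succ_apply', ih (by omega)]
            simp only [hg, blockFun, if_true]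
            rw [if_pos (by omega), Nat.mod_eq_of_lt (by omega)]
            omega
        refine ⟨m, rfl, ?_, fun j h1 h2 => ?_⟩
        · rw [show m = k + 1 + k by omega, e2 k le_rfl]
          omega
        · rcases Nat.lt_or_ge j (k + 1) with h | h
          · rw [e1 j (by omega)]; omega
          · rw [show j = k + 1 + (j - (k + 1)) by omega, e2 _ (by omega)]; omega
    obtain ⟨u, hu, hum, huj⟩ := hfirst
    have hw : wt ((k, b) :: L) = u + wt L := by rw [hu]; rfl
    have ht : tot ((k, b) :: L) = m + tot L := rfl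
    have hcomb : ∀ i, g^[u + i] 0 = m + g'^[i] 0 := fun i => by
      rw [Nat.add_comm u i, Function.iterate_add_apply, hum, hshift]
    rw [hw, ht]
    refine ⟨by rw [hcomb, hend], fun j h1 h2 => ?_⟩
    rcases Nat.lt_or_ge j u with h | h
    · obtain ⟨a1, a2⟩ := huj j h1 h
      exact ⟨a1, by omega⟩
    · rw [show j = u + (j - u) by omega, hcomb]
      rcases Nat.eq_zero_or_pos (j - u) with h0 | h0
      · have : 0 < tot L := by
          rcases L with _ | ⟨⟨k', b'⟩, L'⟩
          · simp [wt] at h2; omega
          · simp only [tot]; omega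
        rw [h0, Function.iterate_zero_apply]
        omega
      · obtain ⟨a1, a2⟩ := hmid _ h0 (by omega)
        omega

section cycleType

theorem cycleType_permCongr {α β : Type*} [Fintype α] [DecidableEq α] [Fintype β] [DecidableEq β]
    (e : α ≃ β) (σ : Perm α) : (e.permCongr σ).cycleType = σ.cycleType := by
  let f : α ≃ {b : β // (fun _ => True) b} := e.trans (Equiv.subtypeUnivEquiv fun _ => trivial).symm
  have h : e.permCongr σ = σ.extendDomain f := by
    ext b
    obtain ⟨x, rfl⟩ := e.surjective b
    rw [Equiv.permCongr_apply, Equiv.symm_apply_apply]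
    exact (Equiv.Perm.extendDomain_apply_image σ f x).symm
  rw [h, Equiv.Perm.cycleType_extendDomain]

theorem cycleType_sumCongr {α β : Type*} [Fintype α] [DecidableEq α] [Fintype β] [DecidableEq β]
    (σ : Perm α) (τ : Perm β) :
    (Equiv.Perm.sumCongr σ τ).cycleType = σ.cycleType + τ.cycleType := by
  classical
  let fl : α ≃ {z : α ⊕ β // z ∈ Set.range Sum.inl} := Equiv.ofInjective Sum.inl Sum.inl_injective
  let fr : β ≃ {z : α ⊕ β // z ∈ Set.range Sum.inr} := Equiv.ofInjective Sum.inr Sum.inr_injective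
  have hl : Equiv.Perm.sumCongr σ (1 : Perm β) = σ.extendDomain fl := by
    ext z
    rcases z with x | y
    · exact (Equiv.Perm.extendDomain_apply_image σ fl x).symm
    · rw [Equiv.Perm.extendDomain_apply_not_subtype _ _ (by simp)]
      rfl
  have hr : Equiv.Perm.sumCongr (1 : Perm α) τ = τ.extendDomain fr := by
    ext z
    rcases z with x | y
    · rw [Equiv.Perm.extendDomain_apply_not_subtype _ _ (by simp)]
      rfl
    · exact (Equiv.Perm.extendDomain_apply_image τ fr y).symm
  have hd : (Equiv.Perm.sumCongr σ (1 : Perm β)).Disjoint (Equiv.Perm.sumCongr 1 τ) := by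
    intro z
    rcases z with x | y
    · exact Or.inr rfl
    · exact Or.inl rfl
  rw [show Equiv.Perm.sumCongr σ τ = Equiv.Perm.sumCongr σ 1 * Equiv.Perm.sumCongr 1 τ by simp,
    hd.cycleType_mul, hl, hr, Equiv.Perm.cycleType_extendDomain,
    Equiv.Perm.cycleType_extendDomain]

theorem cycleType_finRotate_odd (k : ℕ) :
    (finRotate (2 * k + 1)).cycleType =
      Multiset.filter (fun c => 2 ≤ c) ({2 * k + 1} : Multiset ℕ) := by
  rcases k with _ | k
  · rw [show finRotate (2 * 0 + 1) = 1 from Equiv.ext fun x => Fin.ext (by omega),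
      Equiv.Perm.cycleType_one]
    rfl
  · rw [cycleType_finRotate_of_le (by omega), Multiset.filter_singleton, if_pos (by omega)]

theorem cycleType_blockPerm : ∀ L : List (ℕ × Bool), (blockPerm L).cycleType =
    Multiset.filter (fun c => 2 ≤ c) ((L.map fun x => 2 * x.1 + 1 : List ℕ) : Multiset ℕ)
  | [] => by simp [blockPerm]
  | (k, b) :: L => by
    refine (cycleType_permCongr (finSumFinEquiv (m := 2 * k + 1) (n := tot L)) _).trans ?_
    rw [cycleType_sumCongr, cycleType_blockPerm L, List.map_cons, ← Multiset.cons_coe,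
      ← Multiset.singleton_add, Multiset.filter_add]
    congr 1
    cases b
    · rw [if_neg (by simp), Equiv.Perm.cycleType_inv, cycleType_finRotate_odd]
    · rw [if_pos rfl, cycleType_finRotate_odd]

end cycleType

end Cfsg.Agent.AltPPair
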